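import Cfsg.Agent.Lib.BG1.Sec1
import Cfsg.Agent.Lib.BG2.Rank
import Cfsg.Agent.Lib.PGrp.Cyclic
import Cfsg.Agent.Lib.Hall.Huppert
import Cfsg.Agent.Lib.Transfer.Tate
import Cfsg.Agent.Lib.Amalg.Bridge

/-! Subgroups `F` with `F^g ∩ N(F) ≤ F`; `p`-nilpotency and supersolvability criteria. -/

set_option autoImplicit false
set_option linter.unusedSectionVars false

namespace Cfsg.Lib.HSub
open Subgroup Cfsg.Lib.Core Cfsg.Lib.Amalg Cfsg.Lib.BG1

universe u
variable {G : Type u} [Group G] [Finite G] {p : ℕ} [hp : Fact p.Prime] {A E F K M N P Q R Y : Subgroup G} {k : ℕ}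

/-- the subgroup generated by the commutators and the `(p-1)`-st powers -/
def sq (p : ℕ) (Y : Subgroup G) : Subgroup G := ⁅Y, Y⁆ ⊔ closure {x | ∃ y ∈ Y, y ^ (p - 1) = x}

theorem sq_le : sq p Y ≤ Y :=
  sup_le (comm_le_of_le le_rfl le_rfl) ((closure_le _).2 (by rintro _ ⟨y, hy, rfl⟩; exact pow_mem hy _))

theorem sq_le_iff : sq p Y ≤ K ↔ ⁅Y, Y⁆ ≤ K ∧ ∀ y ∈ Y, y ^ (p - 1) ∈ K := by
  rw [sq, sup_le_iff, closure_le]
  exact and_congr_right fun _ => ⟨fun h y hy => h ⟨y, hy, rfl⟩, by rintro h _ ⟨y, hy, rfl⟩; exact h y hy⟩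

theorem le_sq_of_coprime (h : (Nat.card A).Coprime (p - 1)) : A ≤ sq p A := fun y hy =>
  mem_of_pow_mem_coprime (Nat.Coprime.coprime_dvd_left (Subgroup.orderOf_dvd_natCard A hy) h)
    ((sq_le_iff.1 le_rfl).2 y hy)

theorem map_sq {G' : Type*} [Group G'] [Finite G'] (f : G →* G') (Y : Subgroup G) : (sq p Y).map f = sq p (Y.map f) := by
  rw [sq, sq, Subgroup.map_sup, map_commutator, MonoidHom.map_closure]
  congr 2
  ext x
  constructor
  · rintro ⟨_, ⟨y, hy, rfl⟩, rfl⟩; exact ⟨f y, mem_map_of_mem f hy, (map_pow f y _).symm⟩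
  · rintro ⟨_, ⟨y, hy, rfl⟩, rfl⟩; exact ⟨_, ⟨y, hy, rfl⟩, map_pow f y _⟩

instance sq_top_normal : (sq p (⊤ : Subgroup G)).Normal :=
  normal_of_cj fun g => (map_sq _ _).trans (by rw [map_top_of_surjective _ (MulAut.conj g).surjective])

theorem le_norm_of_relIndex (hR : IsPGroup p R) (h : M ≤ R) (hi : M.relIndex R = p) : R ≤ 𝐍(M) := by
  have := normal_of_isCoatom_of_isPGroup hR (isCoatom_of_index_prime (M := M.subgroupOf R)
    (by rw [← relIndex, hi]; exact hp.out))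
  exact le_normalizer_of_normal_subgroupOf h

theorem comm_sq_le (hR : IsPGroup p R) (h : M ≤ R) (hi : M.relIndex R = p) (h1 : Y ≤ 𝐍(M)) (h2 : Y ≤ 𝐍(R)) :
    ⁅R, sq p Y⁆ ≤ M := by
  have hn := le_norm_of_relIndex hR h hi
  have hc : Nat.card (quo M R) = p := by rw [card_quo hn, hi]
  rw [commutator_comm, ← quo_cent_iff (sq_le.trans h1) hn]
  refine mim_le_of_le_mpre (sq_le_iff.2 ⟨?_, fun y hy => ?_⟩)
  · rw [← mim_le_iff ((comm_le_of_le le_rfl le_rfl).trans h1), mim_commutator h1 h1]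
    exact der_norm_le_cent_of_cyclic (isCyclic_of_prime_card hc) (mim_norm _ h2)
  · refine mem_mpre.2 ⟨pow_mem (h1 hy) _, ?_⟩
    have := Hall.pow_sub_one_mem_centralizer_of_card_prime hp.out hc (mem_norm_mim (f := qmk M) (h1 hy) (h2 hy))
    rwa [← map_pow] at this

theorem le_frattiniOf (hP : IsPGroup p P) (hK : K ≤ P) (h : ∀ M ≤ P, M.relIndex P = p → K ≤ M) : K ≤ frattiniOf P := by
  rw [← map_subgroupOf_of_le hK]
  refine map_mono (le_frattini_iff.2 fun M hM => ?_)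
  have := h (M.map P.subtype) (map_subtype_le M) (by
    rw [relIndex, map_subtype_subgroupOf, index_eq_of_isCoatom_of_isPGroup hP hM])
  rwa [← map_subgroupOf_of_le hK, map_le_map_iff_of_injective P.subtype_injective] at this

theorem cent_of_max (hR : IsPGroup p R) (hA : A ≤ sq p Y) (hc : (Nat.card A).Coprime p) (hY : Y ≤ 𝐍(R))
    (h : ∀ M ≤ R, M.relIndex R = p → Y ≤ 𝐍(M)) : A ≤ 𝐂(R) :=
  coprime_cent_frattini ((hA.trans sq_le).trans hY) (coprime_card_of_isPGroup hp.out hR hc).symm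
    (le_frattiniOf hR (comm_le_left ((hA.trans sq_le).trans hY)) fun M hM hi =>
      (commutator_mono le_rfl hA).trans (comm_sq_le hR hM hi (h M hM hi) hY))

theorem card_of_relIndex (h : M ≤ R) (hi : M.relIndex R = p) (hc : Nat.card R = p ^ (k + 1)) : Nat.card M = p ^ k := by
  have := Transfer.card_mul_relIndex h
  rw [hi, hc, pow_succ] at this
  exact Nat.eq_of_mul_eq_mul_right hp.out.pos this

/-- the orders in the hypothesis -/
def Ord (p k : ℕ) (F : Subgroup G) : Prop := Nat.card F = p ^ k ∨ (p ^ k = 2 ∧ Nat.card F = 4)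

theorem cent_of_inv (hQ : IsPGroup p Q) (hA : A ≤ sq p Y) (hc : (Nat.card A).Coprime p) (hAQ : A ≤ 𝐍(Q)) (hk : 1 ≤ k)
    (hd : p ^ (k + 1) ≤ Nat.card Q) (h : ∀ F ≤ Q, Ord p k F → Y ≤ 𝐍(F)) : A ≤ 𝐂(Q) := by
  have hcyc : ∀ F ≤ Q, IsCyclic F → Y ≤ 𝐍(F) → A ≤ 𝐂(F) := fun F hF h1 h2 =>
    cent_of_max (hQ.to_le hF) hA hc h2 fun M hM _ => h2.trans (PGrp.normalizer_le_normalizer_of_isCyclic h1 hM)
  refine Coprime.le_centralizer_of_pow_eq_one hQ hAQ hc fun x hx hxp => ?_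
  suffices ∃ F, x ∈ F ∧ A ≤ 𝐂(F) by
    obtain ⟨F, h1, h2⟩ := this
    exact BG1.le_cent_symm h2 h1
  by_cases hle : Nat.card (zpowers x) ≤ p ^ k
  · obtain ⟨F, h1, h2, h3⟩ := BG2.exists_between_card_eq hQ (zpowers_le.2 hx) k hle
      ((Nat.pow_le_pow_right hp.out.pos k.le_succ).trans hd)
    by_cases hF : IsCyclic F
    · exact ⟨F, h1 (mem_zpowers x), hcyc F h2 hF (h F h2 (.inl h3))⟩
    obtain ⟨R, h4, h5, h6⟩ := BG2.exists_between_card_eq hQ h2 (k + 1)
      (h3 ▸ Nat.pow_le_pow_right hp.out.pos k.le_succ) hd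
    refine ⟨R, h4 (h1 (mem_zpowers x)), cent_of_max (hQ.to_le h5) hA hc (le_normalizer_of_cj_le fun y hy => ?_)
      fun M hM hi => h M (hM.trans h5) (.inl (card_of_relIndex hM hi h6))⟩
    refine cj_le_iff'.2 fun r hr => ?_
    have h7 : zpowers r < R := lt_of_le_of_ne (zpowers_le.2 hr) fun e =>
      have : IsCyclic R := e ▸ inferInstance
      hF (isCyclic_of_injective _ (inclusion_injective h4))
    obtain ⟨a, ha⟩ := IsPGroup.iff_card.1 ((hQ.to_le h5).to_le h7.le)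
    obtain ⟨M, h8, h9, h10⟩ := BG2.exists_between_card_eq (hQ.to_le h5) h7.le k (by
      have := card_lt_of_lt' h7
      rw [ha, h6] at this
      rw [ha]
      exact Nat.pow_le_pow_right hp.out.pos (Nat.lt_succ_iff.1 ((Nat.pow_lt_pow_iff_right hp.out.one_lt).1 this)))
      (h6 ▸ Nat.pow_le_pow_right hp.out.pos k.le_succ)
    exact h9 (conj_mem_of_mem_normalizer (h M (h9.trans h5) (.inl h10) hy) (h8 (mem_zpowers r)))
  refine ⟨_, mem_zpowers x, hcyc _ (zpowers_le.2 hx) inferInstance (h _ (zpowers_le.2 hx) (.inr ?_))⟩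
  have h1 : p ≤ p ^ k := by simpa using Nat.pow_le_pow_right hp.out.pos hk
  rw [Nat.card_zpowers] at hle ⊢
  by_cases hp2 : p = 2
  · subst hp2
    obtain ⟨j, hj, e⟩ := (Nat.dvd_prime_pow Nat.prime_two (m := 2)).1 (orderOf_dvd_of_pow_eq_one (hxp.2 rfl))
    rw [e] at hle ⊢
    have := (Nat.pow_lt_pow_iff_right (a := 2) (by norm_num)).1 (not_le.1 hle)
    obtain rfl : j = 2 := by omega
    obtain rfl : k = 1 := by omega
    exact ⟨rfl, rfl⟩
  · exact absurd ((Nat.le_of_dvd hp.out.pos (orderOf_dvd_of_pow_eq_one (hxp.1 hp2))).trans h1) hle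

theorem comm_le_frattini (hP : IsPGroup p P) (hQ : Q ≤ P) (hc : (Nat.card A).Coprime p)
    (hc' : (Nat.card A).Coprime (p - 1)) (hAQ : A ≤ 𝐍(Q)) (hk : 1 ≤ k) (hd : p ^ (k + 1) ≤ Nat.card P)
    (h : ∀ F ≤ P, Ord p k F → ∀ g ∈ A, cj g F ⊓ P ≤ F) : ⁅Q, A⁆ ≤ frattiniOf P := by
  have hA := le_sq_of_coprime hc'
  have h1 : ⁅Q, A⁆ ≤ P := (comm_le_left hAQ).trans hQ
  have h2 : A ≤ 𝐍(⁅Q, A⁆) := right_le_normalizer_comm Q A
  have h3 : ⁅⁅Q, A⁆, A⁆ = ⁅Q, A⁆ := Coprime.commutator_commutator_eq hAQ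
    (coprime_card_of_isPGroup hp.out (hP.to_le hQ) hc).symm
  generalize ⁅Q, A⁆ = U at h1 h2 h3
  have hU := hP.to_le h1
  by_cases hle : p ^ (k + 1) ≤ Nat.card U
  · have := cent_of_inv hU hA hc h2 hk hle fun F hF ho => le_normalizer_of_cj_le fun g hg =>
      (le_inf le_rfl ((cj_le_of_le_of_mem_normalizer hF (h2 hg)).trans h1)).trans (h F (hF.trans h1) ho g hg)
    rw [← h3, comm_eq_bot_iff'.2 this]
    exact bot_le
  obtain ⟨R, h4, h5, h6⟩ := BG2.exists_between_card_eq hP h1 (k + 1) (not_le.1 hle).le hd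
  refine le_frattiniOf hP h1 fun M hM hi => ?_
  by_contra hUM
  have key : ∀ X ≤ P, ¬ X ≤ M → (M ⊓ X).relIndex X = p := fun X hX hXM => by
    rw [inf_relIndex_right]
    have : (M.subgroupOf P).Normal := normal_subgroupOf_of_le_normalizer (le_norm_of_relIndex hP hM hi)
    refine ((Nat.dvd_prime hp.out).1 ?_).resolve_left fun e => hXM (relIndex_eq_one.1 e)
    rw [← hi, ← relIndex_subgroupOf hX]
    exact relIndex_dvd_index_of_normal _ _
  have h7 := h (M ⊓ R) (inf_le_left.trans hM) (.inl (card_of_relIndex inf_le_right (key R h5 fun e => hUM (h4.trans e)) h6))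
  have h8 := comm_sq_le hU inf_le_right (key U h1 hUM) (Y := A) (le_normalizer_of_cj_le fun g hg => by
    have h9 := cj_le_of_le_of_mem_normalizer (inf_le_right : M ⊓ U ≤ U) (h2 hg)
    exact le_inf ((le_inf (cj_mono g (inf_le_inf_left M h4)) (h9.trans h1)).trans ((h7 g hg).trans inf_le_left)) h9) h2
  exact hUM (h3.ge.trans ((commutator_mono le_rfl hA).trans (h8.trans inf_le_left)))

theorem pnil_of_focal (hP : Syl p P E) (h : Transfer.focalIn P E ≤ frattiniOf P) : Transfer.PNil p E := by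
  have h1 := (hP.sylowIn.inf_resOf_le_focalIn).trans h
  have := Transfer.resOf_normal (p := p) (⊤ : Subgroup E)
  have h2 := Transfer.tate hP.toSylow (Transfer.resOf p ⊤) (by
    rw [← map_le_map_iff_of_injective E.subtype_injective, Subgroup.map_inf _ _ _ E.subtype_injective,
      Transfer.map_resOf, Amalg.map_subtype_top, map_frattiniOf_of_injective E.subtype_injective, hP.map_toSylow, inf_comm]
    exact h1)
  have h3 := h2.map E.subtype
  rw [Transfer.map_resOf, Amalg.map_subtype_top, Transfer.PNil, Transfer.resOf_resOf] at h3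
  exact h3

/-- the elements normalizing `D` and centralizing it modulo `K` -/
def cmod (D K : Subgroup G) : Subgroup G where
  carrier := {n | n ∈ 𝐍(D) ∧ ∀ x ∈ D, x⁻¹ * (n * x * n⁻¹) ∈ K}
  one_mem' := ⟨one_mem _, fun x _ => by simp⟩
  mul_mem' := fun {a b} ha hb => ⟨mul_mem ha.1 hb.1, fun x hx => by
    have := mul_mem (hb.2 x hx) (ha.2 _ (conj_mem_of_mem_normalizer hb.1 hx))
    convert this using 1; group⟩
  inv_mem' := fun {a} ha => ⟨inv_mem ha.1, fun x hx => by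
    have := inv_mem (ha.2 _ (conj_mem_of_mem_normalizer (inv_mem ha.1) hx))
    convert this using 1; group⟩

theorem pnil_of_closed (hP : Syl p P E) (hmin : ∀ q : ℕ, q.Prime → q ∣ Nat.card E → p ≤ q) (hk : 1 ≤ k)
    (hd : p ^ (k + 1) ≤ Nat.card P) (h : ∀ F ≤ P, Ord p k F → ∀ g ∈ E, cj g F ⊓ P ≤ F) : Transfer.PNil p E := by
  refine pnil_of_focal hP (Transfer.focalIn_le_iff.2 fun x hx u hu hxu => ?_)
  refine hP.sylowIn.alperin_induction (fun D g => ∀ x ∈ D, x⁻¹ * (g * x * g⁻¹) ∈ frattiniOf P)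
    (fun D E g h1 h2 x hx => h1 x (h2 hx)) (fun D g h _ _ h1 h2 x hx => ?_) (fun D hD hS _ n hn => ?_) (zpowers x)
    (zpowers_le.2 hx) u hu (Transfer.cj_zpowers_le.2 hxu) x (mem_zpowers x)
  · have := mul_mem (h1 x hx) (h2 _ (Transfer.conj_mem_cj.2 hx))
    convert this using 1; group
  refine (?_ : E ⊓ 𝐍(D) ≤ cmod D (frattiniOf P)) hn |>.2
  rw [← hS.resOf_sup]
  refine sup_le (Transfer.resOf_le_iff.2 fun y hy hyc => ⟨hy.2, fun x hx => ?_⟩) fun t ht => ⟨ht.2, fun x hx => ?_⟩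
  · have := comm_le_frattini hP.isPGroup hD (A := zpowers y) (by rwa [Nat.card_zpowers]) (by
      rw [Nat.card_zpowers]
      refine Nat.coprime_of_dvd fun q hq h1 h2 => ?_
      have h3 := hmin q hq (h1.trans (Subgroup.orderOf_dvd_natCard E hy.1))
      have := hp.out.two_le
      have := Nat.le_of_dvd (by omega) h2
      omega) (zpowers_le.2 hy.2) hk hd fun F hF ho g hg => h F hF ho g (zpowers_le.2 hy.1 hg)
    have h1 := this (commutator_mem_commutator (inv_mem hx) (mem_zpowers y))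
    rw [commutatorElement_def] at h1
    convert h1 using 1; group
  · have h1 : _ ∈ frattiniOf P :=
      Core.commutator_le_frattiniOf hP.isPGroup (commutator_mem_commutator (inv_mem (hD hx)) ht.1)
    rw [commutatorElement_def] at h1
    convert h1 using 1; group

/-- `F^g ∩ N(F) ≤ F` for all `g` -/
def HS (F : Subgroup G) : Prop := ∀ g : G, cj g F ⊓ 𝐍(F) ≤ F

theorem HS.le_norm (h : HS F) (hP : IsPGroup p P) (hF : F ≤ P) : P ≤ 𝐍(F) := by
  have := eq_of_inf_normalizer_le hP (inf_le_left : P ⊓ 𝐍(F) ≤ P) fun g hg => ⟨hg.1, mem_normalizer_of_cj_le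
    ((le_inf le_rfl ((cj_le_of_le_of_mem_normalizer (le_inf hF le_normalizer) hg.2).trans inf_le_right)).trans (h g))⟩
  exact inf_eq_left.1 this

theorem HS.closed (h : HS F) (hP : IsPGroup p P) (hF : F ≤ P) (g : G) : cj g F ⊓ P ≤ F :=
  (inf_le_inf_left _ (h.le_norm hP hF)).trans (h g)

theorem HS.map {G' : Type*} [Group G'] (h : HS F) (hF : IsPGroup p F) (f : G →* G') (hf : Function.Surjective f) :
    HS (F.map f) := by
  intro g' x' ⟨h1, h2⟩
  obtain ⟨g, rfl⟩ := hf g'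
  rw [← map_cj] at h1
  obtain ⟨x, hx, rfl⟩ := h1
  have hn : x ∈ 𝐍((F ⊔ f.ker : Subgroup G)) := by
    rw [← comap_map_eq, ← cj_eq_self_iff, ← comap_cj, cj_of_mem_normalizer h2]
  have hL : F ⊔ f.ker ⊔ zpowers x ≤ 𝐍((F ⊔ f.ker : Subgroup G)) := sup_le le_normalizer (zpowers_le.2 hn)
  obtain ⟨T, hT, hFT⟩ := exists_syl_ge hF (le_sup_left.trans le_sup_left : F ≤ F ⊔ f.ker ⊔ zpowers x)
  obtain ⟨u, hu, h3⟩ := hT.exists_conj_le ((isPGroup_cj g hF).to_le (zpowers_le.2 hx)) le_sup_right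
  have h4 : u * x * u⁻¹ ∈ F := h.closed hT.isPGroup hFT (u * g)
    ⟨by rw [cj_mul]; exact conj_mem_cj u hx, h3 (conj_mem_cj u (mem_zpowers x))⟩
  have h5 := conj_mem_of_mem_normalizer (inv_mem (hL hu)) (mem_sup_left (T := f.ker) h4)
  rw [← comap_map_eq] at h5
  simpa [mul_assoc] using h5

theorem ss_of_res_le [Q.Normal] (hQ : IsPGroup p Q) (h : pResidualOf p (sq p ⊤) ≤ 𝐂(Q))
    (hs : IsSupersolvable (G ⧸ Q)) : IsSupersolvable G := by
  refine Hall.ss_of_step Q hs fun K hK hQK => ?_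
  set π := QuotientGroup.mk' K
  have hπ : Function.Surjective π := QuotientGroup.mk'_surjective K
  have := Normal.map (inferInstance : Q.Normal) π hπ
  obtain ⟨V, q, hn, h0, h1, hmin, hc, hq, he, hqV⟩ := @Hall.exists_minNormal_elementary_le _ _ _ (Q.map π) _
    (Coprime.isSolvable_of_isPGroup (hQ.map π)) fun e => hQK ((map_mk'_eq_bot_iff K Q).1 e)
  have hV : IsPGroup p V := (hQ.map π).to_le h1
  obtain rfl : q = p := by
    by_contra hne
    have := Fact.mk hq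
    exact h0 (IsPGroup.disjoint_of_ne q p hne V V hqV hV).eq_bot_of_self
  have h2 : pResidualOf q (sq q (⊤ : Subgroup (G ⧸ K))) ≤ 𝐂(V) := by
    rw [← map_top_of_surjective π hπ, ← map_sq, ← map_res]
    exact (map_mono h).trans ((map_centralizer_le_centralizer_image _ _).trans (centralizer_anti h1))
  have h3 : V ≤ 𝐂(sq q (⊤ : Subgroup (G ⧸ K))) := by
    obtain ⟨T, hT⟩ := exists_syl q (sq q (⊤ : Subgroup (G ⧸ K)))
    refine inf_eq_left.1 ((hmin _ inferInstance inf_le_left).resolve_left fun e =>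
      inf_centralizer_ne_bot_of_isPGroup hV hT.isPGroup le_normalizer_of_normal h0 (eq_bot_iff.2 (e ▸ ?_)))
    refine le_inf inf_le_left (BG1.le_cent_symm ?_)
    rw [← hT.res_sup]
    exact sup_le (h2.trans (centralizer_anti inf_le_left)) (BG1.le_cent_symm inf_le_right)
  have h4 := Hall.isCyclic_of_irreducible_of_pow hq he (H := ⊤) le_normalizer_of_normal
    (fun W h1 h2 => hmin W (normal_of_top_le_normalizer h2) h1) (sq_le_iff.1 (BG1.le_cent_symm h3)).1
    (sq_le_iff.1 (BG1.le_cent_symm h3)).2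
  obtain ⟨g, hg⟩ := PGrp.exists_zpowers_eq_of_isCyclic h4
  obtain ⟨g, rfl⟩ := hπ g
  refine ⟨g, fun hgK => h0 ?_, ?_⟩
  · rw [← hg, zpowers_eq_bot]; exact (QuotientGroup.eq_one_iff _).2 hgK
  · rw [← Hall.comap_mk'_zpowers]
    exact Normal.comap (hg ▸ hn) _

/-- the hypothesis on the Sylow subgroups of `E` -/
def Hyp (E : Subgroup G) : Prop := ∀ (p : ℕ) [Fact p.Prime] (P : Subgroup G), Syl p P E → ¬ IsCyclic P →
  ∃ k, 1 ≤ k ∧ p ^ (k + 1) ≤ Nat.card P ∧ ∀ F ≤ P, Ord p k F → HS F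

theorem pnil_of_cyclic (hP : Syl p P E) (hmin : ∀ q : ℕ, q.Prime → q ∣ Nat.card E → p ≤ q) (hc : IsCyclic P) :
    Transfer.PNil p E := by
  refine hP.sylowIn.pnil_iff_forall.2 fun Q hQ y hy hn hyc => ?_
  have := isCyclic_of_injective _ (inclusion_injective hQ)
  refine cent_of_max (hP.isPGroup.to_le hQ) (Y := zpowers y) (le_sq_of_coprime ?_) (by rwa [Nat.card_zpowers])
    (zpowers_le.2 hn) (fun M hM _ => (zpowers_le.2 hn).trans (PGrp.normalizer_le_normalizer_of_isCyclic this hM))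
    (mem_zpowers y)
  rw [Nat.card_zpowers]
  refine Nat.coprime_of_dvd fun q hq h1 h2 => ?_
  have h3 := hmin q hq (h1.trans (Subgroup.orderOf_dvd_natCard E hy))
  have := hp.out.two_le
  have := Nat.le_of_dvd (by omega) h2
  omega

theorem Hyp.pnil (h : Hyp E) (hmin : ∀ q : ℕ, q.Prime → q ∣ Nat.card E → p ≤ q) : Transfer.PNil p E := by
  obtain ⟨P, hP⟩ := exists_syl p E
  by_cases hc : IsCyclic P
  · exact pnil_of_cyclic hP hmin hc
  obtain ⟨k, h1, h2, h3⟩ := h p P hP hc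
  exact pnil_of_closed hP hmin h1 h2 fun F hF ho g _ => (h3 F hF ho).closed hP.isPGroup hF g

theorem Hyp.exists_normal_syl (n : ℕ) : ∀ E : Subgroup G, Nat.card E = n → E.Normal → Hyp E → E ≠ ⊥ →
    ∃ (q : ℕ) (_ : Fact q.Prime) (Q : Subgroup G), Q.Normal ∧ Q ≠ ⊥ ∧ Syl q Q E := by
  induction n using Nat.strong_induction_on with
  | _ n ih =>
  intro E hn hE h h0
  have h1 : Nat.card E ≠ 1 := fun e => h0 (card_eq_one.1 e)
  have hp := Fact.mk (Nat.minFac_prime h1)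
  set p := (Nat.card E).minFac
  have h2 := h.pnil (p := p) fun q hq hd => Nat.minFac_le_of_dvd hq.two_le hd
  rw [Transfer.PNil, resOf_eq_res] at h2
  by_cases h3 : pResidualOf p E = ⊥
  · exact ⟨p, hp, E, hE, h0, syl_self (res_eq_bot_iff.1 h3)⟩
  obtain ⟨m, hm⟩ := relIndex_res (p := p) E
  have key : ∀ (q : ℕ) [Fact q.Prime] (P : Subgroup G), Syl q P (pResidualOf p E) → P ≠ ⊥ → Syl q P E :=
    fun q hq P hP hP0 => hP.of_le_of_not_dvd (res_le E) fun hd => by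
      rw [hm] at hd
      obtain rfl := (Nat.prime_dvd_prime_iff_eq hq.out hp.out).1 (hq.out.dvd_of_dvd_pow hd)
      exact h2 (dvd_card_of_isPGroup_le hP.isPGroup hP0 hP.le)
  obtain ⟨q, hq, Q, h4, h5, h6⟩ := ih _ (hn ▸ card_lt_of_lt' (lt_of_le_of_ne (res_le E) fun e =>
    h2 (e.symm ▸ Nat.minFac_dvd _))) _ rfl (res_normal E)
    (fun q _ P hP hc => h q P (key q P hP (by rintro rfl; exact hc inferInstance)) hc) h3
  exact ⟨q, hq, Q, h4, h5, key q Q h6 h5⟩

theorem Hyp.map (h : Hyp E) [Q.Normal] (hQ : Syl p Q E) : Hyp (E.map (QuotientGroup.mk' Q)) := by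
  intro q hq P' hP' hc
  set π := QuotientGroup.mk' Q
  obtain ⟨P0, hP0⟩ := exists_syl q E
  obtain ⟨_, ⟨e, he, rfl⟩, h1⟩ := (hP0.map π).exists_conj hP'
  rw [← map_cj] at h1
  have hP := hP0.conj_of_mem he
  generalize cj e P0 = P at h1 hP
  subst h1
  have hqp : q ≠ p := by
    rintro rfl
    rw [(map_mk'_eq_bot_iff Q P).2 (hQ.le_of_normal_syl le_normalizer_of_normal hP.isPGroup hP.le)] at hc
    exact hc inferInstance
  have hk : ¬ q ∣ Nat.card π.ker := by
    rw [QuotientGroup.ker_mk']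
    obtain ⟨a, ha⟩ := IsPGroup.iff_card.1 hQ.isPGroup
    exact fun hd => hqp ((Nat.prime_dvd_prime_iff_eq hq.out hp.out).1 (hq.out.dvd_of_dvd_pow (ha ▸ hd)))
  have hcard : ∀ F ≤ P, Nat.card (F.map π) = Nat.card F := fun F hF => by
    rw [← card_map_mul_card_inf_ker π F, inf_comm, inf_eq_bot_of_isPGroup_of_not_dvd hq.out (hP.isPGroup.to_le hF) hk,
      card_bot, mul_one]
  obtain ⟨k, h1, h2, h3⟩ := h q P hP fun h => hc (isCyclic_of_surjective _ (π.subgroupMap_surjective P))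
  refine ⟨k, h1, by rwa [hcard P le_rfl], fun F' hF' ho => ?_⟩
  have e : (P ⊓ F'.comap π).map π = F' := le_antisymm (map_le_iff_le_comap.2 inf_le_right) fun x hx => by
    obtain ⟨y, hy, rfl⟩ := hF' hx
    exact ⟨y, ⟨hy, hx⟩, rfl⟩
  rw [← e] at ho ⊢
  refine (h3 _ inf_le_left ?_).map hP.isPGroup.to_inf_left π (QuotientGroup.mk'_surjective Q)
  rwa [Ord, hcard _ inf_le_left] at ho

theorem Hyp.ss (n : ℕ) : ∀ (G : Type u) [Group G] [Finite G] (E : Subgroup G) [E.Normal], Nat.card G = n → Hyp E →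
    IsSupersolvable (G ⧸ E) → IsSupersolvable G := by
  induction n using Nat.strong_induction_on with
  | _ n ih =>
  intro G _ _ E hE hn h hs
  by_cases h0 : E = ⊥
  · subst h0; exact Hall.ss_of_mulEquiv hs QuotientGroup.quotientBot
  obtain ⟨q, hq, Q, hQn, hQ0, hQ⟩ := Hyp.exists_normal_syl _ E rfl hE h h0
  have := hE.map _ (QuotientGroup.mk'_surjective Q)
  have h1 := ih _ (hn ▸ card_quotient_lt hQ0) (G ⧸ Q) _ rfl (h.map hQ)
    (Hall.ss_of_mulEquiv hs (QuotientGroup.quotientQuotientEquivQuotient Q E hQ.le).symm)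
  by_cases hc : IsCyclic Q
  · exact Hall.ss_of_isCyclic_normal Q h1
  obtain ⟨k, h2, h3, h4⟩ := h q Q hQ hc
  refine ss_of_res_le hQ.isPGroup (res_le_iff.2 fun y hy hyc => ?_) h1
  refine cent_of_inv hQ.isPGroup (zpowers_le.2 hy) (by rwa [Nat.card_zpowers]) le_normalizer_of_normal h2 h3
    (fun F hF ho => le_normalizer_of_cj_le fun g _ => ?_) (mem_zpowers y)
  exact (le_inf le_rfl ((cj_mono g hF).trans (cj_normal g Q).le)).trans ((h4 F hF ho).closed hQ.isPGroup hF g)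

theorem exists_ord (hP : IsPGroup p P) {D : Subgroup G} (hD : D ≤ P) (h1 : 1 < Nat.card D) (h2 : Nat.card D < Nat.card P) :
    ∃ k, 1 ≤ k ∧ p ^ (k + 1) ≤ Nat.card P ∧ Nat.card D = p ^ k := by
  obtain ⟨k, hk⟩ := IsPGroup.iff_card.1 (hP.to_le hD)
  obtain ⟨m, hm⟩ := IsPGroup.iff_card.1 hP
  rw [hk] at h1
  rw [hk, hm] at h2
  exact ⟨k, Nat.pos_of_ne_zero (by rintro rfl; simp at h1),
    hm ▸ Nat.pow_le_pow_right hp.out.pos ((Nat.pow_lt_pow_iff_right hp.out.one_lt).1 h2), hk⟩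

end Cfsg.Lib.HSub
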